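import Mathlib
import Groth.Agent.QRegLib.SymGr
import Groth.Agent.RegComplLib.Basic
import Groth.Agent.ArtFunLib.PS
import Groth.Agent.FSmoothAdicLib.Lift
import Groth.Agent.FieldExtLib.Imperfection

/-!
Complete regular local rings in equal characteristic are power series rings.
-/

set_option autoImplicit false
set_option linter.style.haveILetI false
universe u
open IsLocalRing

namespace Groth.Agent.PSStructLib

/-- Series without terms of degree `< n` lie in `(X)^n`. -/
theorem mem_pow_of_truncTotal_eq_zero {σ k : Type*} [Finite σ] [CommRing k] (n : ℕ) (f : MvPowerSeries σ k)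
    (hf : MvPowerSeries.truncTotal n f = 0) :
    f ∈ (MvPolynomial.idealOfVars σ k ^ n).map (algebraMap (MvPolynomial σ k) (MvPowerSeries σ k)) := by
  let J := MvPolynomial.idealOfVars σ k
  let e := MvPowerSeries.toAdicCompletionAlgEquiv σ k
  have hk : (e f) ∈ (J ^ n • ⊤ : Submodule (MvPolynomial σ k) (AdicCompletion J (MvPolynomial σ k))) := by
    rw [AdicCompletion.pow_smul_top_eq_ker_eval (MvPolynomial.idealOfVars_fg σ k), LinearMap.mem_ker,
      AdicCompletion.eval_apply, MvPowerSeries.toAdicCompletionAlgEquiv_apply,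
      MvPowerSeries.toAdicCompletion_apply_eq_mk_truncTotal, hf]
    exact Submodule.Quotient.mk_zero _
  have hs := Submodule.mem_map_of_mem (f := e.symm.toLinearMap) hk
  rw [Submodule.map_smul''] at hs
  have hf' : f ∈ (J ^ n • ⊤ : Submodule (MvPolynomial σ k) (MvPowerSeries σ k)) := by
    rw [show e.symm.toLinearMap (e f) = f from e.symm_apply_apply f] at hs
    exact Submodule.smul_mono le_rfl le_top hs
  rw [Ideal.smul_top_eq_map] at hf'
  exact hf'

variable {k R : Type u} [Field k] [CommRing R] [Algebra k R] {d : ℕ}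
  (ψ : MvPowerSeries (Fin d) k →ₐ[k] R)

theorem psi_algebraMap (P : MvPolynomial (Fin d) k) :
    ψ (algebraMap (MvPolynomial (Fin d) k) (MvPowerSeries (Fin d) k) P) =
      MvPolynomial.aeval (fun i => ψ (MvPowerSeries.X i)) P := by
  refine DFunLike.congr_fun (MvPolynomial.algHom_ext (f := ψ.comp (IsScalarTower.toAlgHom k (MvPolynomial (Fin d) k) _))
    (g := MvPolynomial.aeval fun i => ψ (MvPowerSeries.X i)) fun i => ?_) P
  simp [MvPowerSeries.algebraMap_apply']

theorem injective_of_isQuasiRegular (hJ : Ideal.span (Set.range fun i => ψ (MvPowerSeries.X i)) ≠ ⊤)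
    (hq : CAlgX.IsQuasiRegular fun i => ψ (MvPowerSeries.X i)) : Function.Injective ψ := by
  classical
  rw [injective_iff_map_eq_zero]
  intro f hf
  let x := fun i => ψ (MvPowerSeries.X i)
  let J := Ideal.span (Set.range x)
  suffices key : ∀ n, ∀ e : Fin d →₀ ℕ, e.degree < n → MvPowerSeries.coeff e f = 0 by
    ext e
    rw [map_zero]
    exact key _ e (Nat.lt_succ_self _)
  intro n
  induction n with
  | zero => intro e he; omega
  | succ n ih =>
    intro e he
    let P := MvPowerSeries.truncTotal (n + 1) f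
    have hP : P.IsHomogeneous n := fun e' he' => by
      rw [show Finsupp.weight (1 : Fin d → ℕ) e' = e'.degree from (DFunLike.congr_fun Finsupp.degree_eq_weight_one e').symm]
      by_contra hne
      refine he' ?_
      rcases lt_or_ge e'.degree (n + 1) with hlt | hge
      · rw [MvPowerSeries.coeff_truncTotal _ hlt]; exact ih e' (by omega)
      · exact MvPowerSeries.coeff_truncTotal_eq_zero _ hge
    have hval : MvPolynomial.eval x (MvPolynomial.map (algebraMap k R) P) ∈ J ^ (n + 1) := by
      have hmem := mem_pow_of_truncTotal_eq_zero (n + 1) (f - (P : MvPowerSeries (Fin d) k)) (by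
        rw [map_sub]
        ext e'
        rw [MvPolynomial.coeff_sub, MvPolynomial.coeff_zero, sub_eq_zero]
        rcases lt_or_ge e'.degree (n + 1) with hlt | hge
        · rw [MvPowerSeries.coeff_truncTotal _ hlt, MvPowerSeries.coeff_truncTotal _ hlt, MvPolynomial.coeff_coe,
            MvPowerSeries.coeff_truncTotal _ hlt]
        · rw [MvPowerSeries.coeff_truncTotal_eq_zero _ hge, MvPowerSeries.coeff_truncTotal_eq_zero _ hge])
      have hψ := Ideal.mem_map_of_mem ψ.toRingHom hmem
      rw [Ideal.map_map, Ideal.map_pow] at hψ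
      have hle : (MvPolynomial.idealOfVars (Fin d) k).map
          (ψ.toRingHom.comp (algebraMap (MvPolynomial (Fin d) k) (MvPowerSeries (Fin d) k))) ≤ J := by
        rw [MvPolynomial.idealOfVars, Ideal.map_span, Ideal.span_le]
        rintro _ ⟨_, ⟨i, rfl⟩, rfl⟩
        refine Ideal.subset_span ⟨i, ?_⟩
        show x i = ψ (algebraMap _ _ (MvPolynomial.X i))
        rw [psi_algebraMap, MvPolynomial.aeval_X]
      have h2 : ψ (f - (P : MvPowerSeries (Fin d) k)) ∈ J ^ (n + 1) := Ideal.pow_right_mono hle _ hψ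
      rw [map_sub, hf, zero_sub, neg_mem_iff] at h2
      have hPa : algebraMap (MvPolynomial (Fin d) k) (MvPowerSeries (Fin d) k) P = (P : MvPowerSeries (Fin d) k) := by
        simp [MvPowerSeries.algebraMap_apply']
      rw [← hPa, psi_algebraMap] at h2
      rw [MvPolynomial.eval_map]
      exact h2
    have hc := hq n (MvPolynomial.map (algebraMap k R) P) (hP.map _) hval e
    rw [MvPolynomial.coeff_map] at hc
    by_contra hne
    refine hJ (Ideal.eq_top_of_isUnit_mem _ hc ((isUnit_iff_ne_zero.2 fun h0 => hne ?_).map _))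
    rwa [MvPowerSeries.coeff_truncTotal _ he] at h0

variable [IsLocalRing R]

theorem surjective_of_span (hk : Function.Surjective ((residue R).comp (algebraMap k R)))
    [IsHausdorff (maximalIdeal R) R]
    (hJ : Ideal.span (Set.range fun i => ψ (MvPowerSeries.X i)) = maximalIdeal R) : Function.Surjective ψ := by
  have hI : (Ideal.span (Set.range (MvPowerSeries.X : Fin d → MvPowerSeries (Fin d) k))).map ψ.toRingHom =
      maximalIdeal R := by
    rw [Ideal.map_span, ← Set.range_comp]
    exact hJ
  haveI : IsHausdorff ((Ideal.span (Set.range (MvPowerSeries.X : Fin d → MvPowerSeries (Fin d) k))).map ψ.toRingHom) R := by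
    rw [hI]; infer_instance
  refine surjective_of_mk_map_comp_surjective
    (I := Ideal.span (Set.range (MvPowerSeries.X : Fin d → MvPowerSeries (Fin d) k))) (f := ψ.toRingHom) fun z => ?_
  obtain ⟨y, rfl⟩ := Ideal.Quotient.mk_surjective z
  obtain ⟨a, ha⟩ := hk (residue R y)
  refine ⟨algebraMap k _ a, Ideal.Quotient.eq.2 ?_⟩
  show ψ (algebraMap k _ a) - y ∈ _
  rw [hI, AlgHom.commutes, ← residue_eq_zero_iff, map_sub]
  exact sub_eq_zero.2 ha

omit ψ

theorem exists_algEquiv [IsRegularLocalRing R] [IsAdicComplete (maximalIdeal R) R]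
    (hk : Function.Surjective ((residue R).comp (algebraMap k R))) :
    ∃ d : ℕ, Nonempty (R ≃ₐ[k] MvPowerSeries (Fin d) k) := by
  obtain ⟨x, hx⟩ := RegLocal.exists_generators (R := R)
  obtain ⟨ψ, hψ⟩ := Groth.Agent.ArtFunLib.ps_exists_lift (Λ := k) (maximalIdeal R) x fun i =>
    hx ▸ Ideal.subset_span ⟨i, rfl⟩
  have hJ : Ideal.span (Set.range fun i => ψ (MvPowerSeries.X i)) = maximalIdeal R := by
    rw [funext hψ]; exact hx
  have hreg := RegLocal.isRegular_of_generators R (IsRegularLocalRing.spanFinrank_maximalIdeal (R := R)).symm x hx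
  refine ⟨_, ⟨(AlgEquiv.ofBijective ψ ⟨injective_of_isQuasiRegular ψ ?_ ?_, surjective_of_span ψ hk hJ⟩).symm⟩⟩
  · rw [hJ]; exact (maximalIdeal.isMaximal R).ne_top
  · rw [funext hψ]
    exact QRegLib.isQuasiRegular_of_isWeaklyRegular x hreg.toIsWeaklyRegular

theorem perfectField_bot (k : Type u) [Field k] : PerfectField (⊥ : Subfield k) := by
  obtain ⟨p, hp⟩ := CharP.exists k
  rcases CharP.char_is_prime_or_zero k p with hprime | rfl
  · haveI := Fact.mk hprime
    haveI := Subfield.fintypeBot (F := k) p
    infer_instance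
  · haveI : CharZero k := CharP.charP_to_charZero k
    infer_instance

/-- A complete local ring containing a field has a coefficient field. -/
theorem exists_coefficientField (R : Type u) [CommRing R] [IsLocalRing R] [IsAdicComplete (maximalIdeal R) R]
    (k₀ : Type u) [Field k₀] [Algebra k₀ R] :
    ∃ s : ResidueField R →+* R, ∀ c, residue R (s c) = c := by
  let F := (⊥ : Subfield k₀)
  haveI : PerfectField F := perfectField_bot k₀
  letI : Algebra F R := ((algebraMap k₀ R).comp (algebraMap F k₀)).toAlgebra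
  letI : Algebra F (ResidueField R) := ((residue R).comp (algebraMap F R)).toAlgebra
  haveI : Algebra.FormallySmooth F (ResidueField R) :=
    FieldExtLib.formallySmooth_field_of_perfectField F (ResidueField R)
  have hB : EGA41.IsFormallySmoothAdic F ⊥ (ResidueField R) ⊥ := fun C _ _ J hJ _ u _ =>
    ⟨Algebra.FormallySmooth.lift J hJ u, Algebra.FormallySmooth.comp_lift J hJ u⟩
  haveI : IsHausdorff ((maximalIdeal R).map (Ideal.Quotient.mk (maximalIdeal R))) (R ⧸ maximalIdeal R) := by
    rw [Ideal.map_quotient_self]; infer_instance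
  let u : ResidueField R →ₐ[F] R ⧸ maximalIdeal R :=
    { RingHom.id (R ⧸ maximalIdeal R) with commutes' := fun _ => rfl }
  obtain ⟨v, -, hv⟩ := FSmoothAdicLib.exists_lift_complete ⊥ ⊥ (maximalIdeal R) hB ⟨1, by simp⟩ (maximalIdeal R)
    ⟨1, by rw [pow_one]⟩ u ⟨1, by simp⟩
  exact ⟨v.toRingHom, fun c => (AlgHom.congr_fun hv c :)⟩

theorem exists_ringEquiv (R : Type u) [CommRing R] [IsRegularLocalRing R] [IsAdicComplete (maximalIdeal R) R]
    (k₀ : Type u) [Field k₀] [Algebra k₀ R] :
    ∃ d : ℕ, Nonempty (R ≃+* MvPowerSeries (Fin d) (ResidueField R)) := by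
  obtain ⟨s, hs⟩ := exists_coefficientField R k₀
  letI : Algebra (ResidueField R) R := s.toAlgebra
  obtain ⟨d, ⟨e⟩⟩ := exists_algEquiv (k := ResidueField R) (R := R) fun c => ⟨c, hs c⟩
  exact ⟨d, ⟨e.toRingEquiv⟩⟩

end Groth.Agent.PSStructLib
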